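import Mathlib

/-!
# Algebra: a flat epimorphism which is an open immersion on a dense retrocompact open
-/

set_option autoImplicit false
set_option linter.style.haveILetI false

universe u

open TensorProduct

namespace GrothLib.FlatBirat6

variable {A B : Type u} [CommRing A] [CommRing B] [Algebra A B]

/-- Surjectivity of a localization in terms of elements. -/
theorem exists_pow_mul_mem_range {M : Submonoid A} {A' : Type u} [CommRing A'] [Algebra A A']
    [IsLocalization M A'] (h : Function.Surjective (Algebra.TensorProduct.includeRight (R := A) (A := B) (B := A')))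
    (b : B) : ∃ t ∈ M, ∃ a : A, algebraMap A B t * b = algebraMap A B a := by
  obtain ⟨c, hc⟩ := h (b ⊗ₜ 1)
  obtain ⟨a, ⟨t, ht⟩, rfl⟩ := IsLocalization.exists_mk'_eq M c
  let B' := Localization (Algebra.algebraMapSubmonoid B M)
  let q : A' →ₐ[A] B' := IsLocalization.liftAlgHom (M := M) (f := Algebra.ofId A B') (fun y => by
    simpa [IsScalarTower.algebraMap_apply A B B'] using
      IsLocalization.map_units B' (⟨_, Algebra.mem_algebraMapSubmonoid_of_mem y⟩ : Algebra.algebraMapSubmonoid B M))
  have := congr(Algebra.TensorProduct.lift (IsScalarTower.toAlgHom A B B') q (fun _ _ => mul_comm _ _) $hc)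
  simp only [Algebra.TensorProduct.includeRight_apply, Algebra.TensorProduct.lift_tmul, map_one, mul_one,
    one_mul, IsScalarTower.coe_toAlgHom'] at this
  have h2 : q (IsLocalization.mk' A' a ⟨t, ht⟩) * algebraMap B B' (algebraMap A B t) =
      algebraMap B B' (algebraMap A B a) := by
    rw [← IsScalarTower.algebraMap_apply A B B', ← IsScalarTower.algebraMap_apply A B B', ← q.commutes,
      ← q.commutes, ← map_mul, IsLocalization.mk'_spec]
  rw [this, ← map_mul, IsLocalization.eq_iff_exists (Algebra.algebraMapSubmonoid B M)] at h2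
  obtain ⟨⟨_, t', ht', rfl⟩, h2⟩ := h2
  refine ⟨t' * t, mul_mem ht' ht, t' * a, ?_⟩
  rw [map_mul, map_mul, mul_comm b _] at *
  linear_combination h2

/-- The kernel dies in a localization mapping injectively. -/
theorem exists_mul_eq_zero {M : Submonoid A} {A' : Type u} [CommRing A'] [Algebra A A']
    [IsLocalization M A'] (h : Function.Injective (Algebra.TensorProduct.includeRight (R := A) (A := B) (B := A')))
    (j : A) (hj : algebraMap A B j = 0) : ∃ t ∈ M, t * j = 0 := by
  have : algebraMap A A' j = 0 := h (by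
    rw [map_zero, Algebra.TensorProduct.includeRight_apply]
    show (1 : B) ⊗ₜ[A] algebraMap A A' j = 0
    rw [Algebra.algebraMap_eq_smul_one, ← smul_tmul, ← Algebra.algebraMap_eq_smul_one, hj, zero_tmul])
  obtain ⟨⟨t, ht⟩, h⟩ := (IsLocalization.map_eq_zero_iff M A' j).1 this
  exact ⟨t, ht, h⟩

/-- Elements multiplied into the range by a power of `s` form a subalgebra. -/
theorem exists_pow_mul_mem_range_of_adjoin (s : A) (G : Set B) (hG : Algebra.adjoin A G = ⊤)
    (h : ∀ b ∈ G, ∃ (n : ℕ) (a : A), algebraMap A B (s ^ n) * b = algebraMap A B a) (b : B) :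
    ∃ (n : ℕ) (a : A), algebraMap A B (s ^ n) * b = algebraMap A B a := by
  have hb : b ∈ Algebra.adjoin A G := hG ▸ Algebra.mem_top
  induction hb using Algebra.adjoin_induction with
  | mem x hx => exact h x hx
  | algebraMap r => exact ⟨0, r, by simp⟩
  | add x y _ _ hx hy =>
    obtain ⟨n, a, ha⟩ := hx; obtain ⟨m, c, hc⟩ := hy
    refine ⟨n + m, s ^ m * a + s ^ n * c, ?_⟩
    simp only [map_add, map_mul, map_pow, pow_add] at *
    linear_combination algebraMap A B s ^ m * ha + algebraMap A B s ^ n * hc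
  | mul x y _ _ hx hy =>
    obtain ⟨n, a, ha⟩ := hx; obtain ⟨m, c, hc⟩ := hy
    refine ⟨n + m, a * c, ?_⟩
    simp only [map_mul, map_pow, pow_add] at *
    linear_combination (algebraMap A B s ^ m * y) * ha + algebraMap A B a * hc

/-- A finitely presented surjective localization has, up to powers, a finitely generated kernel. -/
theorem exists_finset_kernel (c : A) (hsurj : ∀ b : B, ∃ (n : ℕ) (a : A), algebraMap A B (c ^ n) * b = algebraMap A B a)
    (hfp : (Algebra.TensorProduct.includeRight (R := A) (A := B) (B := Localization.Away c)).toRingHom.FinitePresentation) :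
    ∃ F : Finset A, (∀ x ∈ F, algebraMap A B x = 0) ∧
      ∀ j, algebraMap A B j = 0 → ∃ n, c ^ n * j ∈ Ideal.span (F : Set A) := by
  classical
  let Ac := Localization.Away c
  let φ := (Algebra.TensorProduct.includeRight (R := A) (A := B) (B := Ac))
  have hu : ∀ n, IsUnit (algebraMap A Ac (c ^ n)) := fun n =>
    IsLocalization.map_units Ac (⟨c ^ n, n, rfl⟩ : Submonoid.powers c)
  have hφ : Function.Surjective φ.toRingHom := by
    intro z
    induction z using TensorProduct.induction_on with
    | zero => exact ⟨0, map_zero _⟩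
    | tmul b x =>
      obtain ⟨n, a, ha⟩ := hsurj b
      obtain ⟨v, hv⟩ := hu n
      refine ⟨algebraMap A Ac a * ↑v⁻¹ * x, ?_⟩
      show (1 : B) ⊗ₜ[A] (algebraMap A Ac a * ↑v⁻¹ * x) = b ⊗ₜ x
      rw [mul_assoc, ← Algebra.smul_def, ← smul_tmul, Algebra.smul_def, mul_one, ← ha, ← Algebra.smul_def,
        smul_tmul, Algebra.smul_def, ← mul_assoc, ← hv, Units.mul_inv, one_mul]
    | add z w hz hw =>
      obtain ⟨p, rfl⟩ := hz; obtain ⟨q, rfl⟩ := hw
      exact ⟨p + q, map_add _ _ _⟩
  obtain ⟨K, hK⟩ : (RingHom.ker φ.toRingHom).FG := by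
    letI := φ.toRingHom.toAlgebra
    haveI : Algebra.FinitePresentation Ac (B ⊗[A] Ac) := hfp
    exact Algebra.FinitePresentation.ker_fG_of_surjective (Algebra.ofId Ac (B ⊗[A] Ac)) hφ
  have hpt : ∀ x : Ac, φ x = 0 → ∃ j : A, algebraMap A B j = 0 ∧ x ∈ Ideal.span {algebraMap A Ac j} := by
    intro x hx
    obtain ⟨a, ⟨_, n, rfl⟩, rfl⟩ := IsLocalization.exists_mk'_eq (Submonoid.powers c) x
    let B' := Localization.Away (algebraMap A B c)
    let q : Ac →ₐ[A] B' := IsLocalization.liftAlgHom (M := Submonoid.powers c) (f := Algebra.ofId A B') (by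
      rintro ⟨_, m, rfl⟩
      show IsUnit (algebraMap A B' (c ^ m))
      rw [IsScalarTower.algebraMap_apply A B B', map_pow, map_pow]
      exact (IsLocalization.Away.algebraMap_isUnit _).pow m)
    have ha : q (algebraMap A Ac a) = 0 := by
      have := congr(Algebra.TensorProduct.lift (IsScalarTower.toAlgHom A B B') q (fun _ _ => mul_comm _ _) $hx)
      simp only [φ, Algebra.TensorProduct.includeRight_apply, Algebra.TensorProduct.lift_tmul, map_one,
        one_mul, map_zero] at this
      rw [← IsLocalization.mk'_spec Ac a (⟨c ^ n, n, rfl⟩ : Submonoid.powers c), map_mul, this, zero_mul]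
    rw [q.commutes, IsScalarTower.algebraMap_apply A B B',
      IsLocalization.map_eq_zero_iff (Submonoid.powers (algebraMap A B c))] at ha
    obtain ⟨⟨_, m, rfl⟩, hm⟩ := ha
    refine ⟨c ^ m * a, by rw [map_mul, map_pow]; exact hm, Ideal.mem_span_singleton'.2 ?_⟩
    obtain ⟨v, hv⟩ := hu m
    refine ⟨IsLocalization.mk' Ac 1 (⟨c ^ n, n, rfl⟩ : Submonoid.powers c) * ↑v⁻¹, ?_⟩
    rw [map_mul, mul_assoc, ← mul_assoc (↑v⁻¹ : Ac), ← hv, Units.inv_mul, one_mul, mul_comm,
      ← IsLocalization.mk'_eq_mul_mk'_one]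
  have hK' : ∀ x ∈ K, φ x = 0 := fun x hx => RingHom.mem_ker.1 (hK ▸ Ideal.subset_span hx)
  choose g hg using hpt
  let F : Finset A := K.attach.image fun x => g x.1 (hK' x.1 x.2)
  refine ⟨F, fun x hx => ?_, fun j hj => ?_⟩
  · obtain ⟨y, -, rfl⟩ := Finset.mem_image.1 hx
    exact (hg y.1 _).1
  · have hle : RingHom.ker φ.toRingHom ≤ (Ideal.span (F : Set A)).map (algebraMap A Ac) := by
      rw [← hK, Ideal.span_le]
      intro x hx
      refine (Ideal.span_le.2 (Set.singleton_subset_iff.2 ?_)) (hg x (hK' x hx)).2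
      exact Ideal.mem_map_of_mem _ (Ideal.subset_span
        (Finset.mem_image.2 ⟨⟨x, hx⟩, Finset.mem_attach _ _, rfl⟩))
    have hj' : algebraMap A Ac j ∈ RingHom.ker φ.toRingHom := by
      show (1 : B) ⊗ₜ[A] algebraMap A Ac j = 0
      rw [Algebra.algebraMap_eq_smul_one, ← smul_tmul, ← Algebra.algebraMap_eq_smul_one, hj, zero_tmul]
    obtain ⟨_, ⟨n, rfl⟩, hn⟩ := (IsLocalization.algebraMap_mem_map_algebraMap_iff (Submonoid.powers c) Ac _ _).1 (hle hj')
    exact ⟨n, hn⟩

variable [Algebra.FiniteType A B]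

/-- If `A → B` is bijective at `p`, has finitely presented restrictions to a family of basic opens on
which elements of `A` are detected, then it is bijective near `p`. -/
theorem exists_bijective_near (p : Ideal A) [p.IsPrime]
    (hp : Function.Bijective
      (Algebra.TensorProduct.includeRight (R := A) (A := B) (B := Localization.AtPrime p)))
    {ι : Type*} [Finite ι] (a : ι → A) (hsep : ∀ x : A, (∀ i, ∃ n, a i ^ n * x = 0) → x = 0)
    (hfp : ∀ i (s : A), (Algebra.TensorProduct.includeRight (R := A) (A := B)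
      (B := Localization.Away (s * a i))).toRingHom.FinitePresentation) :
    ∃ u ∉ p, (∀ b : B, ∃ (n : ℕ) (x : A), algebraMap A B (u ^ n) * b = algebraMap A B x) ∧
      ∀ x : A, algebraMap A B x = 0 → ∃ n, u ^ n * x = 0 := by
  classical
  obtain ⟨G, hG⟩ := Algebra.FiniteType.out (R := A) (A := B)
  choose t ht x hx using fun b : B => exists_pow_mul_mem_range (M := p.primeCompl) hp.2 b
  let s := ∏ b ∈ G, t b
  have hs : s ∈ p.primeCompl := Submonoid.prod_mem _ fun b _ => ht b
  have hsurj : ∀ b : B, ∃ (n : ℕ) (y : A), algebraMap A B (s ^ n) * b = algebraMap A B y := by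
    refine exists_pow_mul_mem_range_of_adjoin s G hG fun b hb => ⟨1, (∏ c ∈ G.erase b, t c) * x b, ?_⟩
    rw [pow_one, map_mul, ← hx b, ← mul_assoc, ← map_mul, Finset.prod_erase_mul _ _ hb]
  have hsurj' : ∀ i b, ∃ (n : ℕ) (y : A), algebraMap A B ((s * a i) ^ n) * b = algebraMap A B y := fun i b => by
    obtain ⟨n, y, hy⟩ := hsurj b
    exact ⟨n, a i ^ n * y, by rw [mul_pow, map_mul, map_mul, ← hy]; ring⟩
  choose F hF hker using fun i => exists_finset_kernel (B := B) (s * a i) (hsurj' i) (hfp i s)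
  choose e he he0 using fun j : {j : A // algebraMap A B j = 0} =>
    exists_mul_eq_zero (M := p.primeCompl) hp.1 j.1 j.2
  let := Fintype.ofFinite ι
  let w := ∏ i, ∏ j ∈ (F i).attach, e ⟨j.1, hF i j.1 j.2⟩
  have hw : w ∈ p.primeCompl := Submonoid.prod_mem _ fun i _ => Submonoid.prod_mem _ fun j _ => he _
  refine ⟨s * w, mul_mem hs hw, fun b => ?_, fun z hz => ?_⟩
  · obtain ⟨n, y, hy⟩ := hsurj b
    exact ⟨n, w ^ n * y, by rw [mul_pow, map_mul, map_mul, ← hy]; ring⟩
  · choose n hn using fun i => hker i z hz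
    have hwF : ∀ i, ∀ y ∈ Ideal.span (F i : Set A), w * y = 0 := by
      intro i y hy
      induction hy using Submodule.span_induction with
      | mem y hy =>
        obtain ⟨c, hc⟩ : e ⟨y, hF i y hy⟩ ∣ w :=
          (Finset.dvd_prod_of_mem (fun j : {j // j ∈ F i} => e ⟨j.1, hF i j.1 j.2⟩)
            (Finset.mem_attach _ ⟨y, hy⟩)).trans
          (Finset.dvd_prod_of_mem (fun i => ∏ j ∈ (F i).attach, e ⟨j.1, hF i j.1 j.2⟩) (Finset.mem_univ i))
        rw [hc, mul_right_comm, he0, zero_mul]
      | zero => exact mul_zero _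
      | add _ _ _ _ hy hz => rw [mul_add, hy, hz, add_zero]
      | smul r _ _ hy => rw [smul_eq_mul, mul_left_comm, hy, mul_zero]
    refine ⟨(Finset.univ.sup n) + 1, hsep _ fun i => ⟨n i, ?_⟩⟩
    obtain ⟨m, hm⟩ := exists_add_of_le (Finset.le_sup (f := n) (Finset.mem_univ i))
    calc a i ^ n i * ((s * w) ^ (Finset.univ.sup n + 1) * z)
        = (s ^ (m + 1) * w ^ (Finset.univ.sup n)) * (w * ((s * a i) ^ n i * z)) := by rw [hm]; ring
      _ = 0 := by rw [hwF i _ (hn i), mul_zero]

end GrothLib.FlatBirat6
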