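import Groth.Agent.Lib.FlatBirat6.Alg

/-!
# A flat separated morphism which is an isomorphism over a dense open is an open immersion
-/

set_option autoImplicit false
set_option linter.style.haveILetI false

universe u

open CategoryTheory CategoryTheory.Limits AlgebraicGeometry TensorProduct

namespace GrothLib.FlatBirat6

variable {X S : Scheme.{u}} (f : X ⟶ S)

theorem isIso_snd_ι (U : S.Opens) [IsIso (f ∣_ U)] : IsIso (pullback.snd f U.ι) := by
  rw [← (isPullback_morphismRestrict f U).flip.isoPullback_inv_snd]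
  infer_instance

theorem mono_of_isIso_restrict [IsSeparated f] [Flat f] (U : S.Opens) [QuasiCompact U.ι]
    [IsSchemeTheoreticallyDominant U.ι] [IsIso (f ∣_ U)] : Mono f := by
  let π : pullback f f ⟶ S := pullback.fst f f ≫ f
  haveI : Flat π := inferInstanceAs (Flat (pullback.fst f f ≫ f))
  let j := pullback.fst π U.ι
  haveI := isIso_snd_ι f U
  have key : ∀ a : pullback π U.ι ⟶ X, a ≫ f = j ≫ π →
      a = (pullback.snd π U.ι ≫ inv (pullback.snd f U.ι)) ≫ pullback.fst f U.ι := fun a ha => by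
    have hl : pullback.lift a (pullback.snd π U.ι) (ha.trans pullback.condition) =
        pullback.snd π U.ι ≫ inv (pullback.snd f U.ι) := by
      rw [IsIso.eq_comp_inv, pullback.lift_snd]
    rw [← hl, pullback.lift_fst]
  have hfs : j ≫ pullback.fst f f = j ≫ pullback.snd f f :=
    (key _ (Category.assoc _ _ _)).trans
      (key _ (by rw [Category.assoc, ← pullback.condition])).symm
  have hj : j = (j ≫ pullback.fst f f) ≫ pullback.diagonal f := by
    apply pullback.hom_ext
    · simp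
    · simp [hfs]
  have hker : (pullback.diagonal f).ker = ⊥ := by
    refine le_bot_iff.1 ?_
    have h := Scheme.Hom.le_ker_comp (j ≫ pullback.fst f f) (pullback.diagonal f)
    rwa [← hj, Scheme.Hom.ker_eq_bot j] at h
  exact (pullback.isIso_diagonal_iff f).1 (IsClosedImmersion.isIso_iff_ker_eq_bot.2 hker)

/-- Locally a flat monomorphism of finite type, an isomorphism over a dense open, is an open
immersion. -/
theorem exists_isOpenImmersion_comp [Mono f] [LocallyOfFiniteType f] [Flat f] (U : S.Opens)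
    [QuasiCompact U.ι] [IsSchemeTheoreticallyDominant U.ι] [IsIso (f ∣_ U)] (x : X) :
    ∃ (Z : Scheme.{u}) (i : Z ⟶ X) (_ : IsOpenImmersion i), x ∈ i.opensRange ∧ IsOpenImmersion (i ≫ f) := by
  classical
  haveI := isIso_snd_ι f U
  obtain ⟨_, ⟨V, hV, rfl⟩, hxV, -⟩ :=
    S.isBasis_affineOpens.exists_subset_of_mem_open (show f x ∈ (⊤ : S.Opens) by trivial) (⊤ : S.Opens).isOpen
  obtain ⟨_, ⟨W, hW, rfl⟩, hxW, hWV⟩ :=
    X.isBasis_affineOpens.exists_subset_of_mem_open (show x ∈ f ⁻¹ᵁ V from hxV) (f ⁻¹ᵁ V).isOpen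
  letI : Algebra Γ(S, V) Γ(X, W) := (f.appLE V W hWV).hom.toAlgebra
  haveI : Algebra.FiniteType Γ(S, V) Γ(X, W) := f.finiteType_appLE hV hW hWV
  haveI : Module.Flat Γ(S, V) Γ(X, W) := f.flat_appLE hV hW hWV
  let φ := Spec.map (CommRingCat.ofHom (algebraMap Γ(S, V) Γ(X, W)))
  have sq : φ ≫ hV.fromSpec = hW.fromSpec ≫ f := IsAffineOpen.SpecMap_appLE_fromSpec f hV hW hWV
  haveI : Mono φ := by
    haveI : Mono (φ ≫ hV.fromSpec) := by rw [sq]; infer_instance
    exact mono_of_mono φ hV.fromSpec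
  haveI : Flat φ := (HasRingHomProperty.Spec_iff (P := @Flat)).2 (RingHom.flat_algebraMap_iff.2 inferInstance)
  let q := hW.primeIdealOf ⟨x, hxW⟩
  have hq : hW.fromSpec q = x := hW.fromSpec_primeIdealOf _
  let p := φ q
  have hbij : Function.Bijective (Algebra.TensorProduct.includeRight (R := Γ(S, V)) (A := Γ(X, W))
      (B := Localization.AtPrime p.asIdeal)) := by
    let lp := Spec.map (CommRingCat.ofHom (algebraMap Γ(S, V) (Localization.AtPrime p.asIdeal)))
    haveI : Surjective (pullback.snd φ lp) := ⟨fun z => by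
      have hz : lp z ⤳ φ q := by
        have h1 : z ⤳ IsLocalRing.closedPoint (Localization.AtPrime p.asIdeal) := IsLocalRing.specializes_closedPoint z
        have h2 := h1.map lp.continuous
        have h3 : lp (IsLocalRing.closedPoint (Localization.AtPrime p.asIdeal)) = φ q :=
          PrimeSpectrum.ext (IsLocalization.AtPrime.under_maximalIdeal (Localization.AtPrime p.asIdeal) p.asIdeal)
        rwa [h3] at h2
      obtain ⟨w, -, hw⟩ := Flat.generalizingMap φ hz
      obtain ⟨v, hv⟩ := (Scheme.Pullback.range_snd (f := φ) (g := lp)).ge (show z ∈ lp ⁻¹' Set.range φ from ⟨w, hw⟩)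
      exact ⟨v, hv⟩⟩
    haveI := Flat.isIso_of_surjective_of_mono (pullback.snd φ lp)
    have hi : IsIso ((pullbackSpecIso Γ(S, V) Γ(X, W) (Localization.AtPrime p.asIdeal)).inv ≫
        pullback.snd φ lp) := inferInstance
    rw [pullbackSpecIso_inv_snd, isIso_SpecMap_iff] at hi
    exact hi
  obtain ⟨a, haU, hacov⟩ : ∃ a : Finset Γ(S, V), (∀ s ∈ a, S.basicOpen s ≤ U) ∧
      ∀ z ∈ V, z ∈ U → ∃ s ∈ a, z ∈ S.basicOpen s := by
    have hc : IsCompact ((V : Set S) ∩ U) := by
      have := U.ι.isCompact_preimage hV.isCompact |>.image U.ι.continuous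
      have e : (⇑U.ι '' (⇑U.ι ⁻¹' (V : Set S))) = (V : Set S) ∩ U := by
        rw [Set.image_preimage_eq_inter_range, U.range_ι]
      exact e ▸ this
    choose s hsU hzs using fun z : ((V : Set S) ∩ U : Set S) =>
      hV.exists_basicOpen_le (V := U) ⟨z.1, z.2.2⟩ z.2.1
    obtain ⟨t, ht⟩ := hc.elim_finite_subcover (fun z => (S.basicOpen (s z) : Set S))
      (fun z => (S.basicOpen (s z)).isOpen) fun z hz => Set.mem_iUnion.2 ⟨⟨z, hz⟩, hzs ⟨z, hz⟩⟩
    refine ⟨t.image s, fun r hr => ?_, fun z hzV hzU => ?_⟩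
    · obtain ⟨z, -, rfl⟩ := Finset.mem_image.1 hr
      exact hsU z
    · obtain ⟨i, hi, hzi⟩ := Set.mem_iUnion₂.1 (ht ⟨hzV, hzU⟩)
      exact ⟨s i, Finset.mem_image_of_mem s hi, hzi⟩
  have hsep : ∀ r : Γ(S, V), (∀ i : a, ∃ n, (i : Γ(S, V)) ^ n * r = 0) → r = 0 := fun r hr => by
    refine U.ι.app_injective V (Eq.trans ?_ (map_zero _).symm)
    rw [Scheme.Opens.ι_app]
    refine S.IsSheaf.section_ext fun z hz => ?_
    obtain ⟨⟨z', hz'⟩, hz'V, rfl⟩ := hz
    obtain ⟨s, hs, hzs⟩ := hacov z' hz'V hz'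
    refine ⟨U.ι ''ᵁ U.ι ⁻¹ᵁ V ⊓ S.basicOpen s, inf_le_left, ⟨⟨⟨z', hz'⟩, hz'V, rfl⟩, hzs⟩, ?_⟩
    obtain ⟨n, hn⟩ := hr ⟨s, hs⟩
    have h0 : S.presheaf.map (homOfLE (S.basicOpen_le s)).op r = 0 := by
      refine ((S.toRingedSpace.isUnit_res_basicOpen s).pow n).mul_right_eq_zero.1 ?_
      have := congr(S.presheaf.map (homOfLE (S.basicOpen_le s)).op $hn)
      rw [map_mul, map_pow, map_zero] at this
      exact this
    refine Eq.trans ?_ (map_zero (S.presheaf.map _).hom).symm
    show (S.presheaf.map _ ≫ S.presheaf.map _) r = 0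
    rw [← Functor.map_comp]
    refine Eq.trans ?_ (map_zero (S.presheaf.map (homOfLE (inf_le_right :
      U.ι ''ᵁ U.ι ⁻¹ᵁ V ⊓ S.basicOpen s ≤ S.basicOpen s)).op).hom)
    rw [← h0]
    show _ = (S.presheaf.map _ ≫ S.presheaf.map _) r
    rw [← Functor.map_comp]
    rfl
  have hfp : ∀ (i : a) (s : Γ(S, V)), (Algebra.TensorProduct.includeRight (R := Γ(S, V)) (A := Γ(X, W))
      (B := Localization.Away (s * (i : Γ(S, V))))).toRingHom.FinitePresentation := fun i s => by
    let ψ := Spec.map (CommRingCat.ofHom (algebraMap Γ(S, V) (Localization.Away (s * (i : Γ(S, V))))))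
    haveI : IsOpenImmersion ψ := IsOpenImmersion.of_isLocalization (s * (i : Γ(S, V)))
    let t := ψ ≫ hV.fromSpec
    have hrange : Set.range t ⊆ Set.range U.ι := by
      rintro _ ⟨z, rfl⟩
      rw [U.range_ι]
      refine haU _ i.2 ?_
      have hz : ψ z ∈ PrimeSpectrum.basicOpen (i : Γ(S, V)) := by
        have h1 : PrimeSpectrum.comap (algebraMap Γ(S, V) (Localization.Away (s * (i : Γ(S, V))))) z ∈
            (PrimeSpectrum.basicOpen (s * (i : Γ(S, V))) : Set _) :=
          (PrimeSpectrum.localization_away_comap_range (Localization.Away (s * (i : Γ(S, V)))) _).le ⟨z, rfl⟩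
        exact (PrimeSpectrum.basicOpen_mul_le_right _ _) h1
      rw [← hV.fromSpec_preimage_basicOpen] at hz
      exact hz
    haveI : IsIso (pullback.snd f t) := by
      let t' := IsOpenImmersion.lift U.ι t hrange
      let k : pullback f t ⟶ pullback f U.ι := pullback.lift (pullback.fst f t) (pullback.snd f t ≫ t')
        (by rw [Category.assoc, IsOpenImmersion.lift_fac]; exact pullback.condition)
      have sq : IsPullback k (pullback.snd f t) (pullback.snd f U.ι) t' := by
        refine IsPullback.of_right ?_ (pullback.lift_snd _ _ _) (IsPullback.of_hasPullback f U.ι)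
        rw [pullback.lift_fst, IsOpenImmersion.lift_fac]
        exact IsPullback.of_hasPullback f t
      exact sq.isIso_snd_of_isIso
    haveI : IsOpenImmersion (pullback.snd φ ψ) := by
      let k : pullback φ ψ ⟶ pullback f t :=
        pullback.lift (pullback.fst φ ψ ≫ hW.fromSpec) (pullback.snd φ ψ) (by
          rw [Category.assoc, ← sq, pullback.condition_assoc])
      haveI : IsOpenImmersion (k ≫ pullback.fst f t) := by
        rw [pullback.lift_fst]; infer_instance
      haveI := IsOpenImmersion.of_comp k (pullback.fst f t)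
      rw [show pullback.snd φ ψ = k ≫ pullback.snd f t from (pullback.lift_snd _ _ _).symm]
      infer_instance
    have hi : LocallyOfFinitePresentation ((pullbackSpecIso Γ(S, V) Γ(X, W)
        (Localization.Away (s * (i : Γ(S, V))))).inv ≫ pullback.snd φ ψ) := inferInstance
    rw [pullbackSpecIso_inv_snd] at hi
    exact HasRingHomProperty.Spec_iff.1 hi
  obtain ⟨u, hu, husurj, huker⟩ : ∃ u : Γ(S, V), u ∉ p.asIdeal ∧
      (∀ b : Γ(X, W), ∃ (n : ℕ) (r : Γ(S, V)), algebraMap Γ(S, V) Γ(X, W) (u ^ n) * b = algebraMap Γ(S, V) Γ(X, W) r) ∧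
      ∀ r : Γ(S, V), algebraMap Γ(S, V) Γ(X, W) r = 0 → ∃ n, u ^ n * r = 0 :=
    exists_bijective_near (A := Γ(S, V)) (B := Γ(X, W)) p.asIdeal hbij (fun i : a => (i : Γ(S, V))) hsep hfp
  let Au := Localization.Away u
  let Bu := Localization.Away (algebraMap Γ(S, V) Γ(X, W) u)
  let χ : Au →+* Bu := IsLocalization.Away.map Au Bu (algebraMap Γ(S, V) Γ(X, W)) u
  have hχ : ∀ r, χ (algebraMap _ Au r) = algebraMap _ Bu (algebraMap Γ(S, V) Γ(X, W) r) := fun r =>
    IsLocalization.map_eq _ r
  have hbijχ : Function.Bijective χ := by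
    constructor
    · rw [injective_iff_map_eq_zero]
      intro z hz
      obtain ⟨r, ⟨_, n, rfl⟩, rfl⟩ := IsLocalization.exists_mk'_eq (Submonoid.powers u) z
      have h0 : χ (algebraMap _ Au r) = 0 := by
        rw [← IsLocalization.mk'_spec Au r (⟨u ^ n, n, rfl⟩ : Submonoid.powers u), map_mul, hz, zero_mul]
      rw [hχ, IsLocalization.map_eq_zero_iff (Submonoid.powers (algebraMap Γ(S, V) Γ(X, W) u))] at h0
      obtain ⟨⟨_, m, rfl⟩, hm⟩ := h0
      obtain ⟨l, hl⟩ := huker (u ^ m * r) (by rw [map_mul, map_pow]; exact hm)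
      rw [IsLocalization.mk'_eq_zero_iff]
      exact ⟨⟨u ^ (l + m), l + m, rfl⟩, show u ^ (l + m) * r = 0 by rw [pow_add, mul_assoc]; exact hl⟩
    · intro z
      obtain ⟨b, ⟨_, n, rfl⟩, rfl⟩ := IsLocalization.exists_mk'_eq (Submonoid.powers (algebraMap Γ(S, V) Γ(X, W) u)) z
      obtain ⟨m, r, hr⟩ := husurj b
      refine ⟨IsLocalization.mk' Au r (⟨u ^ (m + n), m + n, rfl⟩ : Submonoid.powers u), ?_⟩
      change IsLocalization.map Bu (algebraMap Γ(S, V) Γ(X, W)) _ (IsLocalization.mk' Au r _) = _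
      rw [IsLocalization.map_mk', IsLocalization.mk'_eq_iff_eq]
      congr 1
      simp only [← hr, map_pow, map_mul, pow_add]
      ring
  let g := Spec.map (CommRingCat.ofHom (algebraMap Γ(X, W) Bu)) ≫ hW.fromSpec
  haveI : IsOpenImmersion (Spec.map (CommRingCat.ofHom (algebraMap Γ(X, W) Bu))) :=
    IsOpenImmersion.of_isLocalization (algebraMap Γ(S, V) Γ(X, W) u)
  haveI : IsOpenImmersion (Spec.map (CommRingCat.ofHom (algebraMap Γ(S, V) Au))) :=
    IsOpenImmersion.of_isLocalization u
  refine ⟨_, g, inferInstance, ?_, ?_⟩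
  · obtain ⟨z, hz⟩ := (PrimeSpectrum.localization_away_comap_range Bu (algebraMap Γ(S, V) Γ(X, W) u)).ge
      (show q ∈ PrimeSpectrum.basicOpen (algebraMap Γ(S, V) Γ(X, W) u) from hu)
    exact ⟨z, (congr(hW.fromSpec $hz)).trans hq⟩
  · have : g ≫ f = Spec.map (CommRingCat.ofHom χ) ≫
        Spec.map (CommRingCat.ofHom (algebraMap Γ(S, V) Au)) ≫ hV.fromSpec := by
      rw [← Spec.map_comp_assoc, show g ≫ f = Spec.map (CommRingCat.ofHom (algebraMap Γ(X, W) Bu)) ≫
        φ ≫ hV.fromSpec by rw [sq]; exact Category.assoc _ _ _, ← Spec.map_comp_assoc]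
      congr 2
      ext r
      exact (hχ r).symm
    rw [this]
    haveI : IsIso (Spec.map (CommRingCat.ofHom χ)) := isIso_SpecMap_iff.2 hbijχ
    infer_instance

/-- A flat separated morphism locally of finite type which is an isomorphism over a schematically
dense retrocompact open is an open immersion. -/
theorem isOpenImmersion_of_isIso_restrict [IsSeparated f] [LocallyOfFiniteType f] [Flat f] (U : S.Opens)
    [QuasiCompact U.ι] [IsSchemeTheoreticallyDominant U.ι] [IsIso (f ∣_ U)] : IsOpenImmersion f := by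
  haveI := mono_of_isIso_restrict f U
  exact IsOpenImmersion.of_forall_source_exists f f.injective fun x => exists_isOpenImmersion_comp f U x

end GrothLib.FlatBirat6
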