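import Mathlib
import Groth.Prelude.Def_CInt

/-!
# A faithfully flat separated birational morphism is an isomorphism
-/

set_option autoImplicit false
set_option linter.style.haveILetI false

universe u

open CategoryTheory CategoryTheory.Limits AlgebraicGeometry

namespace GrothLib.FlatBirat6

theorem isSchemeTheoreticallyDominant_ι {X : Scheme.{u}} (V : X.Opens) [QuasiCompact V.ι]
    (hV : CInt.IsSchematicallyDense V) : IsSchemeTheoreticallyDominant V.ι := by
  constructor
  ext W : 2
  rw [Scheme.Hom.ker_apply, Scheme.IdealSheafData.ideal_bot, Pi.bot_apply]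
  refine (RingHom.injective_iff_ker_eq_bot _).1 ?_
  rw [Scheme.Opens.ι_app]
  have key : ∀ (W' : X.Opens) (e : W' ≤ W.1), W' = W.1 ⊓ V →
      Function.Injective (X.presheaf.map (homOfLE e).op) := by
    rintro _ e rfl
    exact hV W.1
  exact key _ _ (by
    rw [Scheme.Hom.image_preimage_eq_opensRange_inf, Scheme.Opens.opensRange_ι, inf_comm])

theorem isIso_of_flat_surjective_birational {X S : Scheme.{u}} (f : X ⟶ S) [Flat f] [Surjective f]
    [QuasiCompact f] [IsSeparated f] (U : S.Opens) (V : X.Opens) [QuasiCompact V.ι]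
    (hV : CInt.IsSchematicallyDense V) (hle : V ≤ f ⁻¹ᵁ U) (hiso : IsIso (f.resLE U V hle)) : IsIso f := by
  haveI := isSchemeTheoreticallyDominant_ι V hV
  let p₁ := pullback.fst f f
  let p₂ := pullback.snd f f
  let j₁ := pullback.fst p₁ V.ι
  haveI : IsOpenImmersion j₁ := inferInstance
  let j₂ := pullback.fst (j₁ ≫ p₂) V.ι
  let j := j₂ ≫ j₁
  haveI : IsSchemeTheoreticallyDominant j := inferInstance
  have e₁ : (j₂ ≫ pullback.snd p₁ V.ι) ≫ V.ι = j ≫ p₁ := by
    simp only [j, j₁, Category.assoc, pullback.condition]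
  have e₂ : pullback.snd (j₁ ≫ p₂) V.ι ≫ V.ι = j ≫ p₂ := by
    simp only [j, j₂, Category.assoc, ← pullback.condition]
  have hb : j₂ ≫ pullback.snd p₁ V.ι = pullback.snd (j₁ ≫ p₂) V.ι := by
    rw [← cancel_mono (f.resLE U V hle), ← cancel_mono U.ι]
    simp only [Category.assoc, Scheme.Hom.resLE_comp_ι]
    rw [← Category.assoc, ← Category.assoc, e₁, ← Category.assoc, e₂, Category.assoc, Category.assoc]
    show j ≫ pullback.fst f f ≫ f = j ≫ pullback.snd f f ≫ f
    rw [pullback.condition]
  have hfs : j ≫ p₁ = j ≫ p₂ := by rw [← e₁, ← e₂, hb]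
  have hj : j = (j ≫ p₁) ≫ pullback.diagonal f := by
    apply pullback.hom_ext
    · simp [p₁]
    · simp [hfs, p₂]
  have hker : (pullback.diagonal f).ker = ⊥ := by
    refine le_bot_iff.1 ?_
    have h := Scheme.Hom.le_ker_comp (j ≫ p₁) (pullback.diagonal f)
    rwa [← hj, Scheme.Hom.ker_eq_bot j] at h
  haveI : Mono f := (pullback.isIso_diagonal_iff f).1 (IsClosedImmersion.isIso_iff_ker_eq_bot.2 hker)
  exact Flat.isIso_of_surjective_of_mono f

end GrothLib.FlatBirat6
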